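import Cfsg.Agent.H116.HeckeD
import Cfsg.Agent.H167.SteinbergRGD
import Cfsg.Agent.Mrg.ParSys.Fam.Rgd
import Cfsg.Agent.Nodes.RGDChev
import Cfsg.Agent.S1043
import Cfsg.Prelude.Def_ParabolicCharacters
set_option linter.all false

/-!
# The number of constituents of `1_B^G` for groups with a root group datum, and for Chevalley groups (helper116)

* `card_nbr` : the number of chambers of the `i`-panel of `x` other than `x` is `|X (sr i)|`;
* `card_constituents_rgd` : if all simple root groups have order `q`, the number of irreducible constituents of the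
  permutation character on the cosets of `B` is the number of conjugacy classes of the Weyl group;
* `B_eq` : for the Chevalley groups `D.group F` the subgroup `B` of the root group datum is `D.borelSubgroup F`;
* `card_root` : the simple root groups have order `|F|`.
-/

set_option autoImplicit false
set_option linter.unusedSectionVars false

namespace Cfsg.Agent.H116.HeckeE

open Cfsg CoxeterSystem Cfsg.Agent.ChevalleyStructure.CoxeterGeom Cfsg.Agent.Tits.Roots Cfsg.Agent.Tits.Core
  Cfsg.Agent.Tits.Exchange Cfsg.Agent.Nodes.Reps Cfsg.Agent.Nodes.BNOf Cfsg.Agent.Nodes.StabComb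
  Cfsg.Agent.Nodes.Bruhat Cfsg.Agent.Nodes.LeviDec Cfsg.Agent.Nodes.NormalForm
  Cfsg.Agent.ParSys Cfsg.Agent.Omega.ThmID Cfsg.Agent.Omega.EH3Close.OfRGD

section RGDSec

variable {I W Y : Type*} [Fintype I] [DecidableEq I] [Group W] [Group Y] {M : CoxeterMatrix I}
  {cs : CoxeterSystem M W} {A : I → I → ℤ} {h : IsCartan M A} {p : ℕ} {T : Subgroup Y} {n : I → Y}
  {X : (I → ℤ) → Subgroup Y}

/-- The neighbours of a chamber in a panel. -/
theorem card_nbr [Finite W] (R : RGD cs h p T n X) (Δ : Bldg cs (Y ⧸ RGD.B cs h T X))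
    (hδ : ∀ (a b k : Y) (w : W), Rp cs R.nsys w k → (Δ.δ (QuotientGroup.mk a) (QuotientGroup.mk b) = w ↔
        ∃ b₁ ∈ RGD.B cs h T X, ∃ b₂ ∈ RGD.B cs h T X, a⁻¹ * b = b₁ * k * b₂))
    (x : Y ⧸ RGD.B cs h T X) (i : I) :
    Nat.card {y // Δ.δ x y = cs.simple i} = Nat.card (X (sr i)) := by
  induction x using QuotientGroup.induction_on with
  | _ a =>
  have hn := rp_simple cs R.nsys i
  have hXB : X (sr i) ≤ RGD.B cs h T X := RGD.X_le_B (isRoot_sr cs h i) (sr_nonneg i)
  have hmem : ∀ u : X (sr i), Δ.δ (QuotientGroup.mk a) (QuotientGroup.mk (a * ((u : Y) * n i))) = cs.simple i := by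
    intro u
    rw [hδ _ _ _ _ hn]
    exact ⟨u, hXB u.2, 1, one_mem _, by group⟩
  refine (Nat.card_congr (Equiv.ofBijective (fun u : X (sr i) =>
    (⟨QuotientGroup.mk (a * ((u : Y) * n i)), hmem u⟩ :
      {y // Δ.δ (QuotientGroup.mk a) y = cs.simple i})) ⟨?_, ?_⟩)).symm
  · intro u u' he
    have h1 : (QuotientGroup.mk (a * ((u : Y) * n i)) : Y ⧸ RGD.B cs h T X) =
      QuotientGroup.mk (a * ((u' : Y) * n i)) := congrArg Subtype.val he
    rw [QuotientGroup.eq] at h1
    have h2 : Rp cs R.nsys (cs.simple i) (n i)⁻¹ := by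
      have := hn.inv
      rwa [cs.inv_simple] at this
    have h3 := eq_one_of_conj_mem_B R (mul_mem (inv_mem u.2) u'.2) h2 (by
      have e : (n i)⁻¹ * ((u : Y)⁻¹ * u') * (n i)⁻¹⁻¹ = (a * ((u : Y) * n i))⁻¹ * (a * ((u' : Y) * n i)) := by group
      rw [e]; exact h1)
    exact Subtype.ext (inv_mul_eq_one.1 h3)
  · rintro ⟨y, hy⟩
    induction y using QuotientGroup.induction_on with
    | _ b =>
    obtain ⟨b₁, hb₁, b₂, hb₂, e⟩ := (hδ _ _ _ _ hn).1 hy
    have hBP : RGD.B cs h T X ≤ PJ cs h T X {i} := B_le_PJ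
    have h1 : a⁻¹ * b ∈ PJ cs h T X {i} := by
      rw [e]
      exact mul_mem (mul_mem (hBP hb₁) (n_mem R i)) (hBP hb₂)
    have h2 : a⁻¹ * b ∉ RGD.B cs h T X := by
      intro h3
      apply n_not_mem R i
      have h4 : n i = b₁⁻¹ * (a⁻¹ * b) * b₂⁻¹ := by rw [e]; group
      rw [h4]
      exact mul_mem (mul_mem (inv_mem hb₁) h3) (inv_mem hb₂)
    obtain ⟨u, hu, b', hb', e'⟩ := Omega.EH3Close.OfRGD.exists_form R h1 h2
    refine ⟨⟨u, hu⟩, Subtype.ext ?_⟩
    show (QuotientGroup.mk (a * (u * n i)) : Y ⧸ RGD.B cs h T X) = QuotientGroup.mk b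
    rw [QuotientGroup.eq]
    have h3 : (a * (u * n i))⁻¹ * b = b' := by
      have h4 : b = a * (u * n i * b') := by rw [← e']; group
      rw [h4]; group
    rw [h3]
    exact hb'

/-- **The number of constituents of `1_B^G`** for a group with a root group datum whose simple root groups have order
`q`. -/
theorem card_constituents_rgd [Finite W] [Finite Y] (R : RGD cs h p T n X)
    (hgen : RGD.B cs h T X ⊔ NN cs R.nsys = ⊤) {q : ℕ} (hq : ∀ i, Nat.card (X (sr i)) = q) (hq0 : 0 < q) :
    Nat.card {χ : IrrCharacter Y // ∃ φ : Y → ℂ, IsCharacter Y φ ∧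
      fixedPointCharacter (RGD.B cs h T X) = (χ : Y → ℂ) + φ} = Nat.card (ConjClasses W) := by
  obtain ⟨Δ, hiso, htr, hδ⟩ := H167.SteinbergRGD.exists_bldg R hgen
  exact HeckeD.card_constituents Δ hiso htr hq0 fun x i => by rw [card_nbr R Δ hδ, hq]

end RGDSec

/-! ### Chevalley groups -/

section Chev

open Cfsg.Lie Cfsg.Agent.ChevalleyStructure Cfsg.Agent.ChevalleyStructure.Elts Cfsg.Agent.Nodes.RGDChev
  Cfsg.Agent.ChevalleyStructure.RootVec Cfsg.Agent.ChevalleyStructure.RootVecTab Cfsg.Agent.ChevalleyStructure.NPerm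

universe u

variable {D : ChevalleyDatum} {l : ℕ} {M : CoxeterMatrix (Fin l)} (hp : IsType D l M) {K : Type u} [Field K]
  {W : Type*} [Group W] (cs : CoxeterSystem M W)

include hp

theorem pos_iff_vec {s : ℕ} (hs : s < D.nroots) : D.IsPosRoot s ↔ 0 ≤ vec D l s := by
  rw [RootVec.isPosRoot_iff hp.checked]
  constructor
  · rintro ⟨-, h⟩ i
    exact h i (lt_rank hp i)
  · intro h
    refine ⟨hs, fun i hi => ?_⟩
    have hi' : i < l := by rw [← hp.rank_eq]; exact hi
    exact h ⟨i, hi'⟩

/-- The subgroup `B` of the root group datum of a Chevalley group. -/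
theorem B_eq : RGD.B cs hp.isCartan ((D.diagonalSubgroup K).subgroupOf (D.group K))
    (fun x => (XV D l K x).subgroupOf (D.group K)) = (D.borelSubgroup K).subgroupOf (D.group K) := by
  have hle : D.borelSubgroup K ≤ D.group K := (S1043.result (F := K) D hp.inList).1
  apply le_antisymm
  · refine sup_le ?_ (iSup_le ?_)
    · intro g hg
      exact (le_sup_right : D.diagonalSubgroup K ≤ D.borelSubgroup K) hg
    · rintro ⟨x, hx, hx0⟩ g hg
      obtain ⟨r, hr, rfl⟩ := (isRoot_iff hp cs x).1 hx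
      have hg' : (g : GL D.Idx K) ∈ XV D l K (vec D l r) := hg
      rw [XV_vec hp K hr] at hg'
      obtain ⟨t, ht⟩ := (mem_rootSubgroup_iff hp.inList r _).1 hg'
      show (g : GL D.Idx K) ∈ D.borelSubgroup K
      rw [ht]
      exact (le_sup_left : D.posUnipotent K ≤ D.borelSubgroup K)
        (xG_mem_posUnipotent hp.inList ((pos_iff_vec hp hr).2 hx0) t)
  · have h1 : D.borelSubgroup K ≤ (RGD.B cs hp.isCartan ((D.diagonalSubgroup K).subgroupOf (D.group K))
        (fun x => (XV D l K x).subgroupOf (D.group K))).map (D.group K).subtype := by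
      refine sup_le ?_ ?_
      · unfold ChevalleyDatum.posUnipotent
        rw [Subgroup.closure_le]
        rintro g ⟨r, t, hr, hg⟩
        have hg' : g = xG hp.inList r t := (eq_xG_iff hp.inList g r t).2 hg
        subst hg'
        refine ⟨⟨xG hp.inList r t, xG_mem_group hp.inList r t⟩, ?_, rfl⟩
        refine RGD.X_le_B (isRoot_vec hp cs hr.1) ((pos_iff_vec hp hr.1).1 hr) ?_
        rw [Subgroup.mem_subgroupOf, XV_vec hp K hr.1]
        exact xG_mem_rootSubgroup hp.inList r t
      · intro g hg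
        exact ⟨⟨g, hle ((le_sup_right : D.diagonalSubgroup K ≤ D.borelSubgroup K) hg)⟩, RGD.T_le_B hg, rfl⟩
    rintro ⟨g, hg⟩ hgB
    obtain ⟨g', hg', e⟩ := h1 (show g ∈ D.borelSubgroup K from hgB)
    have : g' = ⟨g, hg⟩ := Subtype.ext e
    rw [← this]
    exact hg'

/-- The simple root groups have order `|K|`. -/
theorem card_root (i : Fin l) : Nat.card ((XV D l K (sr i)).subgroupOf (D.group K)) = Nat.card K := by
  have hr := simple_lt hp.inList (lt_rank hp i)
  refine Nat.card_congr (Equiv.ofBijective (fun t : K =>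
    (⟨⟨xG hp.inList (D.simple i) t, xG_mem_group hp.inList _ t⟩, by
      rw [Subgroup.mem_subgroupOf, XV_sr hp]
      exact xG_mem_rootSubgroup hp.inList _ t⟩ : (XV D l K (sr i)).subgroupOf (D.group K))) ⟨?_, ?_⟩).symm
  · intro s t hst
    exact xG_injective hp.inList hr (congrArg (fun z => ((z.1 : ↥(D.group K)) : GL D.Idx K)) hst)
  · rintro ⟨⟨g, hg⟩, hg'⟩
    rw [Subgroup.mem_subgroupOf, XV_sr hp] at hg'
    obtain ⟨t, rfl⟩ := (mem_rootSubgroup_iff hp.inList _ _).1 hg'
    exact ⟨t, rfl⟩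

/-- **The number of constituents of `1_B^G` in a Chevalley group.** -/
theorem card_constituents_chev [Finite K] :
    Nat.card {χ : IrrCharacter ↥(D.group K) // ∃ φ : ↥(D.group K) → ℂ, IsCharacter ↥(D.group K) φ ∧
      fixedPointCharacter ((D.borelSubgroup K).subgroupOf (D.group K)) = (χ : ↥(D.group K) → ℂ) + φ} =
    Nat.card (ConjClasses M.Group) := by
  obtain ⟨p, hpc⟩ := CharP.exists K
  have hpp : Fact p.Prime := ⟨CharP.char_is_prime K p⟩
  have hW : Finite M.Group := finite_W hp M.toCoxeterSystem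
  rw [← B_eq hp M.toCoxeterSystem]
  exact card_constituents_rgd (rgd hp M.toCoxeterSystem p) (gen hp M.toCoxeterSystem p) (fun i => card_root hp i)
    Nat.card_pos

end Chev

end Cfsg.Agent.H116.HeckeE
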