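import Cfsg.Agent.H116.HeckeB
import Cfsg.Agent.Tits.Gate
import Cfsg.Agent.OddOrderCharacters.Clifford
import Cfsg.Agent.Classification.TypeZIV.Parity
import Cfsg.Agent.S0157
set_option linter.all false

-- part: H116/HeckeC
section
/-!
# The adjacency algebra of a finite building (helper116)

`ad Δ v` is the matrix `v (δ x y)` on the chambers; `Pm g` the permutation matrix of `g`.

* `ad_mul`, `mul_ad` : multiplication by the matrix of `s_i` is `R`, `L` of `HeckeA` with parameter `q`;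
* `exists_ad` : a matrix commuting with all `Pm g` is `ad Δ v`;
* `casimir` : `∑_g tr(X Pm g) Pm g⁻¹ = ∑_w c_w A_w X A_wᵀ`;
* `eq_zero` : it is zero only for `X = 0`, if `X` commutes with all `A_w`.
-/

set_option autoImplicit false
set_option linter.unusedSectionVars false

namespace Cfsg.Agent.H116.HeckeC

open CoxeterSystem Cfsg.Agent.Tits.Exchange Module Cfsg.Agent.H116.HeckeA Cfsg.Agent.Tits.Core Matrix
open scoped ComplexConjugate

section Bldg

variable {I W : Type*} {M : CoxeterMatrix I} [Group W] {cs : CoxeterSystem M W} {C : Type*} (Δ : Bldg cs C)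

/-- The matrix of the function `v` on the Weyl group. -/
def ad (v : W → ℂ) : Matrix C C ℂ := fun x y => v (Δ.δ x y)

theorem ad_apply (v : W → ℂ) (x y : C) : ad Δ v x y = v (Δ.δ x y) := rfl

theorem ad_transpose (v : W → ℂ) : (ad Δ v)ᵀ = ad Δ (fun w => v w⁻¹) := by
  ext x y
  rw [transpose_apply, ad_apply, ad_apply, Δ.symm x y]

theorem ad_injective [Nonempty C] : Function.Injective (ad Δ) := by
  intro u v h
  funext w
  obtain ⟨x⟩ := ‹Nonempty C›
  obtain ⟨y, hy⟩ := Δ.exists_δ x w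
  have h1 := congrFun (congrFun h x) y
  rwa [ad_apply, ad_apply, hy] at h1

variable [DecidableEq W]

theorem e_apply (w x : W) : e w x = if x = w then 1 else 0 := Pi.single_apply w 1 x

variable [Fintype C] [DecidableEq C] {q : ℕ} (hq : ∀ x i, Nat.card {y // Δ.δ x y = cs.simple i} = q)

include hq

theorem card_filter (x : C) (i : I) : (Finset.univ.filter fun y => Δ.δ x y = cs.simple i).card = q := by
  rw [← hq x i, Nat.card_eq_fintype_card, Fintype.card_subtype]

theorem q_pos [Nonempty C] (i : I) : 0 < q := by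
  obtain ⟨x⟩ := ‹Nonempty C›
  obtain ⟨y, hy⟩ := Δ.exists_δ x (cs.simple i)
  rw [← card_filter Δ hq x i, Finset.card_pos]
  exact ⟨y, Finset.mem_filter.2 ⟨Finset.mem_univ _, hy⟩⟩

/-- Right multiplication by the matrix of a fundamental reflection. -/
theorem ad_mul (v : W → ℂ) (i : I) : ad Δ v * ad Δ (e (cs.simple i)) = ad Δ (R cs q i v) := by
  ext x z
  rw [mul_apply, ad_apply, HeckeA.R_apply]
  have h0 : ∀ y, ad Δ v x y * ad Δ (e (cs.simple i)) y z =
      if Δ.δ z y = cs.simple i then v (Δ.δ x y) else 0 := by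
    intro y
    rw [ad_apply, ad_apply, e_apply, mul_ite, mul_one, mul_zero]
    have : Δ.δ y z = cs.simple i ↔ Δ.δ z y = cs.simple i :=
      ⟨fun h => Δ.δ_symm_simple h, fun h => Δ.δ_symm_simple h⟩
    by_cases h : Δ.δ y z = cs.simple i
    · rw [if_pos h, if_pos (this.1 h)]
    · rw [if_neg h, if_neg fun h' => h (this.2 h')]
  rw [Finset.sum_congr rfl fun y _ => h0 y, ← Finset.sum_filter]
  rcases cs.length_mul_simple (Δ.δ x z) i with hl | hl
  · rw [if_neg (by omega)]
    have h1 : ∀ y ∈ Finset.univ.filter (fun y => Δ.δ z y = cs.simple i), v (Δ.δ x y) = v (Δ.δ x z * cs.simple i) := by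
      intro y hy
      rw [Δ.step_lt x z y i (Finset.mem_filter.1 hy).2 (by omega)]
    rw [Finset.sum_congr rfl h1, Finset.sum_const, card_filter Δ hq, nsmul_eq_mul]
    push_cast
    rfl
  · rw [if_pos (by omega)]
    obtain ⟨y₀, hy₀, hy₀'⟩ := Δ.exists_step x z i
    have hmem : y₀ ∈ Finset.univ.filter (fun y => Δ.δ z y = cs.simple i) :=
      Finset.mem_filter.2 ⟨Finset.mem_univ _, hy₀⟩
    have h1 : ∀ y ∈ (Finset.univ.filter (fun y => Δ.δ z y = cs.simple i)).erase y₀, v (Δ.δ x y) = v (Δ.δ x z) := by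
      intro y hy
      obtain ⟨hne, hy⟩ := Finset.mem_erase.1 hy
      have hy1 := (Finset.mem_filter.1 hy).2
      have h2 : y ∈ Δ.Pan i y₀ :=
        Δ.mem_Pan_trans (Δ.mem_Pan_symm (Δ.mem_Pan_of_δ hy₀)) (Δ.mem_Pan_of_δ hy1)
      have h3 : Δ.δ y₀ y = cs.simple i := h2.resolve_left hne
      have h4 := Δ.step_lt x y₀ y i h3 (by
        rw [hy₀', mul_assoc, cs.simple_mul_simple_self, mul_one]; omega)
      rw [h4, hy₀', mul_assoc, cs.simple_mul_simple_self, mul_one]
    have hpos : 0 < q := by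
      rw [← card_filter Δ hq z i, Finset.card_pos]
      exact ⟨y₀, hmem⟩
    rw [← Finset.add_sum_erase _ _ hmem, Finset.sum_congr rfl h1, Finset.sum_const,
      Finset.card_erase_of_mem hmem, card_filter Δ hq, hy₀', nsmul_eq_mul, Nat.cast_sub (by omega)]
    push_cast
    rfl

/-- Left multiplication by the matrix of a fundamental reflection. -/
theorem mul_ad (v : W → ℂ) (i : I) : ad Δ (e (cs.simple i)) * ad Δ v = ad Δ (L cs q i v) := by
  have h1 : (ad Δ (e (cs.simple i)))ᵀ = ad Δ (e (cs.simple i)) := by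
    rw [ad_transpose]
    congr 1
    funext w
    rw [e_apply, e_apply]
    congr 1
    rw [inv_eq_iff_eq_inv, cs.inv_simple]
  rw [← transpose_inj, transpose_mul, h1, ad_transpose, ad_transpose, ad_mul Δ hq]
  congr 1
  funext w
  rw [HeckeA.R_apply, HeckeA.L_apply]
  have h2 : (w * cs.simple i)⁻¹ = cs.simple i * w⁻¹ := by rw [_root_.mul_inv_rev, cs.inv_simple]
  rw [h2, ← cs.length_inv w, ← cs.length_inv (w * cs.simple i), h2]

theorem comm_iff [Nonempty C] (v : W → ℂ) :
    v ∈ Z cs (q : ℝ) ↔ ∀ i, ad Δ (e (cs.simple i)) * ad Δ v = ad Δ v * ad Δ (e (cs.simple i)) := by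
  rw [mem_Z]
  refine forall_congr' fun i => ?_
  rw [mul_ad Δ hq, ad_mul Δ hq]
  exact ⟨fun h => by rw [h], fun h => ad_injective Δ h⟩

/-- A matrix commuting with the matrices of the fundamental reflections commutes with all `A_w`. -/
theorem comm_all (X : Matrix C C ℂ) (h : ∀ i, ad Δ (e (cs.simple i)) * X = X * ad Δ (e (cs.simple i))) (w : W) :
    ad Δ (e w) * X = X * ad Δ (e w) := by
  obtain ⟨ω, hω, rfl⟩ := cs.exists_isReduced w
  induction ω with
  | nil =>
    have h1 : ad Δ (e (cs.wordProd [])) = 1 := by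
      ext x y
      rw [ad_apply, e_apply, wordProd_nil, Matrix.one_apply]
      by_cases h : x = y
      · rw [if_pos h, if_pos ((Δ.eq_one x y).2 h)]
      · rw [if_neg h, if_neg fun h' => h ((Δ.eq_one x y).1 h')]
    rw [h1, one_mul, mul_one]
  | cons i ω ih =>
    have hr := reduced_tail cs hω
    have h1 : ad Δ (e (cs.wordProd (i :: ω))) = ad Δ (e (cs.simple i)) * ad Δ (e (cs.wordProd ω)) := by
      rw [mul_ad Δ hq, L_e, wordProd_cons]
      rw [← wordProd_cons, hω.eq, hr.eq, List.length_cons]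
      omega
    rw [h1, mul_assoc, ih hr, ← mul_assoc, h i, mul_assoc]

end Bldg

section Perm

variable {C : Type*} [Fintype C] [DecidableEq C] {G : Type*} [Group G] [MulAction G C]

/-- The permutation matrix. -/
def Pm (C : Type*) [DecidableEq C] [MulAction G C] (g : G) : Matrix C C ℂ := fun x y => if x = g • y then 1 else 0

theorem Pm_apply (g : G) (x y : C) : Pm C g x y = if x = g • y then 1 else 0 := rfl

theorem Pm_mul_apply (g : G) (X : Matrix C C ℂ) (x y : C) : (Pm C g * X) x y = X (g⁻¹ • x) y := by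
  rw [mul_apply, Finset.sum_eq_single (g⁻¹ • x)]
  · rw [Pm_apply, if_pos (by rw [smul_inv_smul]), one_mul]
  · intro z _ hz
    rw [Pm_apply, if_neg, zero_mul]
    rintro rfl
    exact hz (by rw [inv_smul_smul])
  · intro h
    exact absurd (Finset.mem_univ _) h

theorem mul_Pm_apply (g : G) (X : Matrix C C ℂ) (x y : C) : (X * Pm C g) x y = X x (g • y) := by
  rw [mul_apply, Finset.sum_eq_single (g • y)]
  · rw [Pm_apply, if_pos rfl, mul_one]
  · intro z _ hz
    rw [Pm_apply, if_neg hz, mul_zero]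
  · intro h
    exact absurd (Finset.mem_univ _) h

theorem Pm_mul (g h : G) : Pm C (g * h) = Pm C g * Pm C h := by
  ext x y
  rw [mul_Pm_apply, Pm_apply, Pm_apply, mul_smul]

theorem Pm_one : Pm C (1 : G) = 1 := by
  ext x y
  rw [Pm_apply, one_smul, Matrix.one_apply]

theorem Pm_conjTranspose (g : G) : (Pm C g)ᴴ = Pm C g⁻¹ := by
  ext x y
  rw [conjTranspose_apply, Pm_apply, Pm_apply]
  have : y = g • x ↔ x = g⁻¹ • y := by
    rw [eq_inv_smul_iff, eq_comm]
  by_cases h : y = g • x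
  · rw [if_pos h, if_pos (this.1 h), star_one]
  · rw [if_neg h, if_neg fun h' => h (this.2 h'), star_zero]

theorem trace_Pm (g : G) : trace (Pm C g) = (Nat.card (MulAction.fixedBy C g) : ℂ) := by
  unfold trace
  simp only [diag_apply, Pm_apply]
  rw [Finset.sum_boole, Nat.card_eq_fintype_card, ← Fintype.card_subtype]
  congr 1
  apply Fintype.card_congr
  exact Equiv.subtypeEquivRight fun x => by rw [MulAction.mem_fixedBy, eq_comm]

theorem Pm_comm_iff (g : G) (X : Matrix C C ℂ) :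
    Pm C g * X = X * Pm C g ↔ ∀ x y, X (g • x) (g • y) = X x y := by
  constructor
  · intro h x y
    have h1 := congrFun (congrFun h (g • x)) y
    rw [Pm_mul_apply, mul_Pm_apply, inv_smul_smul] at h1
    exact h1.symm
  · intro h
    ext x y
    rw [Pm_mul_apply, mul_Pm_apply, ← h (g⁻¹ • x) y, smul_inv_smul]

variable [Fintype G]

/-- `f ↦ ∑ f(g) Pm g⁻¹`. -/
noncomputable def Ph (C : Type*) [Fintype C] [DecidableEq C] [MulAction G C] : (G → ℂ) →ₗ[ℂ] Matrix C C ℂ where
  toFun f := ∑ g : G, f g • Pm C g⁻¹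
  map_add' u v := by
    rw [← Finset.sum_add_distrib]
    exact Finset.sum_congr rfl fun g _ => by rw [Pi.add_apply, add_smul]
  map_smul' c v := by
    rw [RingHom.id_apply, Finset.smul_sum]
    exact Finset.sum_congr rfl fun g _ => by rw [Pi.smul_apply, smul_eq_mul, mul_smul]

theorem Ph_apply (f : G → ℂ) : Ph C f = ∑ g : G, f g • Pm C g⁻¹ := rfl

/-- `X ↦ tr(X Pm g)`. -/
noncomputable def Tr (C : Type*) [Fintype C] [DecidableEq C] [MulAction G C] : Matrix C C ℂ →ₗ[ℂ] (G → ℂ) where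
  toFun X g := trace (X * Pm C g)
  map_add' X Y := by
    funext g
    rw [Pi.add_apply, add_mul, trace_add]
  map_smul' c X := by
    funext g
    rw [Pi.smul_apply, RingHom.id_apply, smul_mul_assoc, trace_smul]

theorem Tr_apply (X : Matrix C C ℂ) (g : G) : Tr C X g = trace (X * Pm C g) := rfl

/-- A class function gives a matrix which commutes with the permutation matrices. -/
theorem Ph_comm {f : G → ℂ} (hf : ∀ g h : G, f (h * g * h⁻¹) = f g) (h : G) : Pm C h * Ph C f = Ph C f * Pm C h := by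
  rw [Ph_apply, Finset.mul_sum, Finset.sum_mul]
  refine Fintype.sum_equiv (MulAut.conj h).toEquiv _ _ fun g => ?_
  show Pm C h * (f g • Pm C g⁻¹) = f (h * g * h⁻¹) • Pm C (h * g * h⁻¹)⁻¹ * Pm C h
  rw [hf, mul_smul_comm, smul_mul_assoc, ← Pm_mul, ← Pm_mul]
  congr 2
  group

theorem Tr_classFun {X : Matrix C C ℂ} (hX : ∀ g : G, Pm C g * X = X * Pm C g) (g h : G) :
    Tr C X (h * g * h⁻¹) = Tr C X g := by
  rw [Tr_apply, Tr_apply, Pm_mul, Pm_mul, ← mul_assoc, ← mul_assoc, ← hX h, mul_assoc, mul_assoc, trace_mul_comm,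
    mul_assoc, mul_assoc, ← Pm_mul, inv_mul_cancel, Pm_one, mul_one]

/-- `tr (Ph f * Xᴴ) = ∑ f(g) conj (tr (X Pm g))`. -/
theorem trace_Ph_mul (f : G → ℂ) (X : Matrix C C ℂ) :
    trace (Ph C f * Xᴴ) = ∑ g : G, f g * conj (Tr C X g) := by
  rw [Ph_apply, Finset.sum_mul, trace_sum]
  refine Finset.sum_congr rfl fun g _ => ?_
  rw [smul_mul_assoc, trace_smul, smul_eq_mul, Tr_apply]
  congr 1
  rw [← Pm_conjTranspose, ← conjTranspose_mul, trace_conjTranspose]
  rfl

end Perm

end Cfsg.Agent.H116.HeckeC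
end

-- part: H116/HeckeD
section
/-!
# The number of constituents of the permutation character on the chambers (helper116)

* `casimir` : `∑_g tr(X Pm g) Pm g⁻¹ = ∑_w c_w A_w X A_wᵀ`;
* `finrank_map` : the class functions act on `ℂ^C` as an algebra of dimension `finrank (Z cs q)`;
* `finrank_eq_card` : this dimension is the number of irreducible constituents of the permutation character;
* `card_constituents` : **the number of irreducible constituents of the permutation character on the chambers of a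
  finite building with all parameters `q` is the number of conjugacy classes of the Weyl group**.
-/

set_option autoImplicit false
set_option linter.unusedSectionVars false

namespace Cfsg.Agent.H116.HeckeD

open CoxeterSystem Cfsg Cfsg.Agent.Tits.Exchange Module Cfsg.Agent.H116.HeckeA Cfsg.Agent.H116.HeckeC
  Cfsg.Agent.Tits.Core Matrix Cfsg.Agent.Characters.Core
open scoped ComplexConjugate

/-! ### The Frobenius norm -/

section Norm

variable {C : Type*} [Fintype C]

/-- The square of the Frobenius norm. -/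
noncomputable def fn (Y : Matrix C C ℂ) : ℝ := ∑ i, ∑ j, Complex.normSq (Y i j)

theorem trace_self (Y : Matrix C C ℂ) : trace (Y * Yᴴ) = (fn Y : ℂ) := by
  unfold fn trace
  rw [Complex.ofReal_sum]
  refine Finset.sum_congr rfl fun i _ => ?_
  rw [diag_apply, mul_apply, Complex.ofReal_sum]
  refine Finset.sum_congr rfl fun j _ => ?_
  rw [conjTranspose_apply]
  exact Complex.mul_conj (Y i j)

theorem fn_nonneg (Y : Matrix C C ℂ) : 0 ≤ fn Y :=
  Finset.sum_nonneg fun i _ => Finset.sum_nonneg fun j _ => Complex.normSq_nonneg _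

theorem eq_zero_of_fn {Y : Matrix C C ℂ} (h : fn Y = 0) : Y = 0 := by
  ext i j
  unfold fn at h
  have h1 := (Finset.sum_eq_zero_iff_of_nonneg (fun i _ => Finset.sum_nonneg fun j _ =>
    Complex.normSq_nonneg (Y i j))).1 h i (Finset.mem_univ _)
  have h2 := (Finset.sum_eq_zero_iff_of_nonneg (fun j _ => Complex.normSq_nonneg (Y i j))).1 h1 j (Finset.mem_univ _)
  exact Complex.normSq_eq_zero.1 h2

end Norm

/-! ### Permutation characters -/

section Char

universe u

variable {G : Type u} [Group G] [Fintype G] (C : Type*) [Fintype C] [DecidableEq C] [MulAction G C]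

/-- The class functions. -/
def Cl (G : Type*) [Group G] : Submodule ℂ (G → ℂ) where
  carrier := {f | ∀ g h : G, f (h * g * h⁻¹) = f g}
  add_mem' {a b} ha hb g h := by rw [Pi.add_apply, Pi.add_apply, ha, hb]
  zero_mem' _ _ := rfl
  smul_mem' c a ha g h := by rw [Pi.smul_apply, Pi.smul_apply, ha]

theorem mem_Cl {f : G → ℂ} : f ∈ Cl G ↔ IsClassFunction G f := Iff.rfl

/-- The permutation character. -/
noncomputable def perm (G : Type*) [Group G] (C : Type*) [MulAction G C] : G → ℂ :=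
  fun g => (Nat.card (MulAction.fixedBy C g) : ℂ)

theorem isCharacter_perm : IsCharacter G (perm G C) := S0157.isCharacter_fixedBy C

theorem Tr_Ph (f : G → ℂ) (y : G) : Tr C (Ph C f) y = ∑ g, f g * perm G C (g⁻¹ * y) := by
  rw [Tr_apply, Ph_apply, Finset.sum_mul, trace_sum]
  refine Finset.sum_congr rfl fun g _ => ?_
  rw [smul_mul_assoc, trace_smul, ← Pm_mul, trace_Pm, smul_eq_mul]
  rfl

theorem Tr_Ph_irr {χ : G → ℂ} (hχ : IsIrrCharacter G χ) :
    Tr C (Ph C χ) = ((Nat.card G : ℂ) * classInner (perm G C) χ / χ 1) • χ := by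
  funext y
  rw [Tr_Ph, Pi.smul_apply, smul_eq_mul]
  have hπ := isCharacter_isClassFunction (isCharacter_perm (G := G) C)
  have h1 := Classification.TypeZIV.Parity.sum_conv hπ hχ y
  have h2 : ∑ g, χ g * perm G C (g⁻¹ * y) = ∑ z, perm G C (y * z) * conj (χ z) := by
    refine Fintype.sum_equiv (Equiv.inv G) _ _ fun g => ?_
    rw [← isCharacter_apply_inv (isIrr_isCharacter hχ), Equiv.inv_apply, inv_inv, mul_comm]
    congr 1
    have h3 := hπ (g⁻¹ * y) g
    rw [← h3]
    congr 1
    group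
  rw [h2, h1, classInner_def]
  congr 2
  rw [← mul_assoc, mul_inv_cancel₀ card_ne_zero_complex, one_mul]

theorem Ph_eq_zero {χ : G → ℂ} (hχ : IsIrrCharacter G χ) (h : classInner (perm G C) χ = 0) : Ph C χ = 0 := by
  have h1 : Tr (G := G) C (Ph C χ) = 0 := by rw [Tr_Ph_irr C hχ, h, mul_zero, zero_div, zero_smul]
  have h2 := trace_Ph_mul (C := C) χ (Ph C χ)
  rw [h1] at h2
  simp only [Pi.zero_apply, map_zero, mul_zero, Finset.sum_const_zero] at h2
  rw [trace_self] at h2
  exact eq_zero_of_fn (by exact_mod_cast h2)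

theorem irr_linearIndependent' : LinearIndependent ℂ (fun χ : IrrCharacter G => (χ : G → ℂ)) :=
  irr_linearIndependent

/-- The class functions act on `ℂ^C` as an algebra whose dimension is the number of constituents. -/
theorem finrank_eq_card : finrank ℂ ((Cl G).map (Ph C)) =
    Nat.card {χ : IrrCharacter G // ∃ φ : G → ℂ, IsCharacter G φ ∧ perm G C = (χ : G → ℂ) + φ} := by
  classical
  have hfin : Finite (IrrCharacter G) := finite_irr
  let _ : Fintype (IrrCharacter G) := Fintype.ofFinite _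
  have hiff : ∀ χ : IrrCharacter G, (∃ φ : G → ℂ, IsCharacter G φ ∧ perm G C = (χ : G → ℂ) + φ) ↔
      classInner (perm G C) (χ : G → ℂ) ≠ 0 := by
    intro χ
    constructor
    · rintro ⟨φ, hφ, h⟩ h0
      rw [h, classInner_add_left, classInner_irr_self χ.2] at h0
      obtain ⟨n, hn⟩ := classInner_isNat hφ (isIrr_isCharacter χ.2)
      rw [hn] at h0
      have h1 : ((1 + n : ℕ) : ℂ) = 0 := by push_cast; exact h0
      have h2 := Nat.cast_eq_zero.1 h1
      omega
    · intro h
      exact ⟨perm G C - χ, OddOrderCharacters.Clifford.isCharacter_sub_irr (isCharacter_perm C) χ.2 h,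
        by rw [add_sub_cancel]⟩
  rw [Nat.card_congr (Equiv.subtypeEquivRight hiff)]
  -- the images of the constituents are linearly independent
  let b : {χ : IrrCharacter G // classInner (perm G C) (χ : G → ℂ) ≠ 0} → Matrix C C ℂ := fun χ => Ph C (χ.1 : G → ℂ)
  have hb : LinearIndependent ℂ b := by
    apply LinearIndependent.of_comp (Tr (G := G) C)
    have h1 : (Tr (G := G) C ∘ b) = fun χ : {χ : IrrCharacter G // classInner (perm G C) (χ : G → ℂ) ≠ 0} =>
        ((Nat.card G : ℂ) * classInner (perm G C) (χ.1 : G → ℂ) / (χ.1 : G → ℂ) 1) • (χ.1 : G → ℂ) := by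
      funext χ
      exact Tr_Ph_irr C χ.1.2
    rw [h1]
    have h2 : LinearIndependent ℂ (fun χ : {χ : IrrCharacter G // classInner (perm G C) (χ : G → ℂ) ≠ 0} =>
        (χ.1 : G → ℂ)) := (irr_linearIndependent' (G := G)).comp _ Subtype.val_injective
    have h3 : ∀ χ : {χ : IrrCharacter G // classInner (perm G C) (χ : G → ℂ) ≠ 0},
        (Nat.card G : ℂ) * classInner (perm G C) (χ.1 : G → ℂ) / (χ.1 : G → ℂ) 1 ≠ 0 := fun χ =>
      div_ne_zero (mul_ne_zero card_ne_zero_complex χ.2) (isIrr_apply_one_ne_zero χ.1.2)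
    exact h2.units_smul fun χ => Units.mk0 _ (h3 χ)
  have hspan : (Cl G).map (Ph C) = Submodule.span ℂ (Set.range b) := by
    apply le_antisymm
    · rintro _ ⟨f, hf, rfl⟩
      rw [classFunction_eq_sum (mem_Cl.1 hf), map_sum]
      refine Submodule.sum_mem _ fun χ _ => ?_
      rw [map_smul]
      apply Submodule.smul_mem
      by_cases h : classInner (perm G C) (χ : G → ℂ) = 0
      · rw [Ph_eq_zero C χ.2 h]
        exact Submodule.zero_mem _
      · exact Submodule.subset_span ⟨⟨χ, h⟩, rfl⟩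
    · rw [Submodule.span_le]
      rintro _ ⟨χ, rfl⟩
      exact ⟨χ.1, isIrr_isClassFunction χ.1.2, rfl⟩
  rw [hspan, finrank_span_eq_card hb, Nat.card_eq_fintype_card]

end Char

/-! ### The Casimir operator -/

section Main

variable {I W : Type*} {M : CoxeterMatrix I} [Group W] {cs : CoxeterSystem M W} {C : Type*} (Δ : Bldg cs C)
  [Fintype C] [DecidableEq C] {G : Type*} [Group G] [Fintype G] [MulAction G C]
  (hiso : ∀ (g : G) (x y : C), Δ.δ (g • x) (g • y) = Δ.δ x y)
  (htr : ∀ x y x' y' : C, Δ.δ x y = Δ.δ x' y' → ∃ g : G, g • x = x' ∧ g • y = y')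

include hiso in
theorem Pm_ad (v : W → ℂ) (g : G) : Pm C g * ad Δ v = ad Δ v * Pm C g := by
  rw [Pm_comm_iff]
  intro x y
  rw [ad_apply, ad_apply, hiso]

include htr in
/-- A matrix commuting with the permutation matrices is a function of the distance. -/
theorem exists_ad [Nonempty C] {X : Matrix C C ℂ} (hX : ∀ g : G, Pm C g * X = X * Pm C g) :
    ∃ v : W → ℂ, X = ad Δ v := by
  obtain ⟨x₀⟩ := ‹Nonempty C›
  choose y hy using fun w : W => Δ.exists_δ x₀ w
  refine ⟨fun w => X x₀ (y w), ?_⟩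
  ext x z
  obtain ⟨g, hg1, hg2⟩ := htr x₀ (y (Δ.δ x z)) x z (hy _)
  rw [ad_apply]
  have h1 := (Pm_comm_iff g X).1 (hX g) x₀ (y (Δ.δ x z))
  rw [hg1, hg2] at h1
  exact h1

/-- The number of the elements moving the pair `(x, u)` to `(y, u')`. -/
noncomputable def cnt (G : Type*) [Group G] [Fintype G] {C : Type*} [MulAction G C] (x u y u' : C) : ℕ :=
  Nat.card {g : G // g • x = y ∧ g • u = u'}

include htr in
theorem cnt_eq {x u y u' x₁ u₁ y₁ u₁' : C} (h : Δ.δ x u = Δ.δ y u') (h1 : Δ.δ x₁ u₁ = Δ.δ x u)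
    (h2 : Δ.δ y₁ u₁' = Δ.δ y u') : cnt G x u y u' = cnt G x₁ u₁ y₁ u₁' := by
  obtain ⟨a, ha1, ha2⟩ := htr x₁ u₁ x u h1
  obtain ⟨b, hb1, hb2⟩ := htr y₁ u₁' y u' h2
  unfold cnt
  refine Nat.card_congr ((Equiv.subtypeEquiv ((Equiv.mulLeft b⁻¹).trans (Equiv.mulRight a)) fun g => ?_))
  show _ ↔ (b⁻¹ * g * a) • x₁ = y₁ ∧ (b⁻¹ * g * a) • u₁ = u₁'
  rw [mul_smul, mul_smul, ha1, mul_smul, mul_smul, ha2, inv_smul_eq_iff, inv_smul_eq_iff, hb1, hb2]

include hiso in
theorem cnt_zero {x u y u' : C} (h : Δ.δ x u ≠ Δ.δ y u') : cnt G x u y u' = 0 := by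
  unfold cnt
  rw [Nat.card_eq_zero]
  left
  constructor
  rintro ⟨g, h1, h2⟩
  apply h
  rw [← h1, ← h2, hiso]

theorem cnt_pos {x u : C} : 0 < cnt G x u x u := by
  unfold cnt
  have : Nonempty {g : G // g • x = x ∧ g • u = u} := ⟨⟨1, one_smul _ _, one_smul _ _⟩⟩
  exact Nat.card_pos

variable [DecidableEq W] [Fintype W]

include hiso htr in
theorem casimir [Nonempty C] : ∃ c : W → ℕ, (∀ w, 0 < c w) ∧ ∀ X : Matrix C C ℂ,
    Ph C (Tr (G := G) C X) = ∑ w, (c w : ℂ) • (ad Δ (e w) * X * (ad Δ (e w))ᵀ) := by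
  obtain ⟨x₀⟩ := ‹Nonempty C›
  choose y₀ hy₀ using fun w : W => Δ.exists_δ x₀ w
  refine ⟨fun w => cnt G x₀ (y₀ w) x₀ (y₀ w), fun w => cnt_pos, fun X => ?_⟩
  have hcnt : ∀ x u y u' : C, ((cnt G x u y u' : ℕ) : ℂ) =
      if Δ.δ x u = Δ.δ y u' then ((cnt G x₀ (y₀ (Δ.δ x u)) x₀ (y₀ (Δ.δ x u)) : ℕ) : ℂ) else 0 := by
    intro x u y u'
    by_cases h : Δ.δ x u = Δ.δ y u'
    · rw [if_pos h, cnt_eq Δ htr h (x₁ := x₀) (u₁ := y₀ (Δ.δ x u)) (y₁ := x₀) (u₁' := y₀ (Δ.δ x u)) (hy₀ _)
        (by rw [hy₀, h])]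
    · rw [if_neg h, cnt_zero Δ hiso h, Nat.cast_zero]
  ext x y
  -- left hand side
  have hL : Ph C (Tr (G := G) C X) x y = ∑ u, ∑ u', ((cnt G x u y u' : ℕ) : ℂ) * X u u' := by
    rw [Ph_apply, Matrix.sum_apply]
    have h1 : ∀ g : G, (Tr C X g • Pm C g⁻¹) x y = ∑ u, ∑ u', if g • x = y ∧ g • u = u' then X u u' else 0 := by
      intro g
      rw [Matrix.smul_apply, smul_eq_mul, Tr_apply, trace, Finset.sum_mul]
      refine Finset.sum_congr rfl fun u _ => ?_
      rw [diag_apply, mul_Pm_apply, Pm_apply]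
      have h2 : x = g⁻¹ • y ↔ g • x = y := by rw [eq_inv_smul_iff]
      by_cases h3 : g • x = y
      · rw [if_pos (h2.2 h3), mul_one, Finset.sum_eq_single (g • u)]
        · rw [if_pos ⟨h3, rfl⟩]
        · intro u' _ hu'
          rw [if_neg fun h => hu' h.2.symm]
        · intro h
          exact absurd (Finset.mem_univ _) h
      · rw [if_neg fun h => h3 (h2.1 h), mul_zero]
        symm
        exact Finset.sum_eq_zero fun u' _ => if_neg fun h' => h3 h'.1
    rw [Finset.sum_congr rfl fun g _ => h1 g, Finset.sum_comm]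
    refine Finset.sum_congr rfl fun u _ => ?_
    rw [Finset.sum_comm]
    refine Finset.sum_congr rfl fun u' _ => ?_
    rw [← Finset.sum_filter, Finset.sum_const, nsmul_eq_mul]
    congr 2
    unfold cnt
    rw [Nat.card_eq_fintype_card, Fintype.card_subtype]
  -- right hand side
  have hR : ∀ w, (ad Δ (e w) * X * (ad Δ (e w))ᵀ) x y =
      ∑ u, ∑ u', (if Δ.δ x u = w ∧ Δ.δ y u' = w then X u u' else 0) := by
    intro w
    rw [mul_apply, Finset.sum_comm]
    refine Finset.sum_congr rfl fun u' _ => ?_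
    rw [mul_apply, transpose_apply, ad_apply, e_apply, Finset.sum_mul]
    refine Finset.sum_congr rfl fun u _ => ?_
    rw [ad_apply, e_apply]
    by_cases h1 : Δ.δ x u = w
    · by_cases h2 : Δ.δ y u' = w
      · rw [if_pos h1, if_pos h2, if_pos ⟨h1, h2⟩, one_mul, mul_one]
      · rw [if_neg h2, mul_zero, if_neg (c := Δ.δ x u = w ∧ Δ.δ y u' = w) fun h => h2 h.2]
    · rw [if_neg h1, zero_mul, zero_mul, if_neg (c := Δ.δ x u = w ∧ Δ.δ y u' = w) fun h => h1 h.1]
  rw [hL, Matrix.sum_apply]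
  simp only [Matrix.smul_apply, smul_eq_mul, hR, Finset.mul_sum]
  rw [Finset.sum_comm' (s := (Finset.univ : Finset W)) (t := fun _ => (Finset.univ : Finset C))
    (t' := (Finset.univ : Finset C)) (s' := fun _ => (Finset.univ : Finset W)) (by simp)]
  refine Finset.sum_congr rfl fun u _ => ?_
  rw [Finset.sum_comm' (s := (Finset.univ : Finset W)) (t := fun _ => (Finset.univ : Finset C))
    (t' := (Finset.univ : Finset C)) (s' := fun _ => (Finset.univ : Finset W)) (by simp)]
  refine Finset.sum_congr rfl fun u' _ => ?_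
  rw [hcnt, Finset.sum_eq_single (Δ.δ x u)]
  · by_cases h : Δ.δ x u = Δ.δ y u'
    · rw [if_pos h, if_pos ⟨rfl, h.symm⟩]
    · rw [if_neg h, if_neg fun h' => h h'.2.symm, zero_mul, mul_zero]
  · intro w _ hw
    rw [if_neg fun h => hw h.1.symm, mul_zero]
  · intro h
    exact absurd (Finset.mem_univ _) h

/-- If `X` commutes with all `A_w` and the Casimir operator annihilates it then `X = 0`. -/
theorem eq_zero [Nonempty C] {c : W → ℕ} (hc : ∀ w, 0 < c w) {X : Matrix C C ℂ}
    (hX : ∀ w, ad Δ (e w) * X = X * ad Δ (e w))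
    (h : ∑ w, (c w : ℂ) • (ad Δ (e w) * X * (ad Δ (e w))ᵀ) = 0) : X = 0 := by
  have hA : ∀ w, (ad Δ (e w))ᵀ = (ad Δ (e w))ᴴ := by
    intro w
    ext x y
    rw [transpose_apply, conjTranspose_apply, ad_apply, e_apply]
    split_ifs <;> simp
  have h1 : ∀ w, trace ((c w : ℂ) • (ad Δ (e w) * X * (ad Δ (e w))ᵀ) * Xᴴ) =
      (((c w : ℝ) * fn (X * ad Δ (e w)) : ℝ) : ℂ) := by
    intro w
    rw [smul_mul_assoc, trace_smul, hX w, hA, mul_assoc, ← conjTranspose_mul, trace_self, smul_eq_mul]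
    push_cast
    rfl
  have h2 : ((∑ w, (c w : ℝ) * fn (X * ad Δ (e w)) : ℝ) : ℂ) = 0 := by
    rw [Complex.ofReal_sum, ← Finset.sum_congr rfl fun w _ => h1 w, ← trace_sum, ← Finset.sum_mul, h, zero_mul,
      trace_zero]
  have h3 : ∑ w, (c w : ℝ) * fn (X * ad Δ (e w)) = 0 := by exact_mod_cast h2
  have h4 := (Finset.sum_eq_zero_iff_of_nonneg (fun w _ =>
    mul_nonneg (Nat.cast_nonneg _) (fn_nonneg (X * ad Δ (e w))))).1 h3 1 (Finset.mem_univ _)
  have h5 : fn (X * ad Δ (e 1)) = 0 := (mul_eq_zero.1 h4).resolve_left (by exact_mod_cast (hc 1).ne')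
  have h6 : ad Δ (e 1) = 1 := by
    ext x y
    rw [ad_apply, e_apply, Matrix.one_apply]
    by_cases h : x = y
    · rw [if_pos h, if_pos ((Δ.eq_one x y).2 h)]
    · rw [if_neg h, if_neg fun h' => h ((Δ.eq_one x y).1 h')]
  rw [h6, mul_one] at h5
  exact eq_zero_of_fn h5

/-- `ad` as a linear map -/
def adL : (W → ℂ) →ₗ[ℂ] Matrix C C ℂ where
  toFun := ad Δ
  map_add' _ _ := rfl
  map_smul' _ _ := rfl

variable {q : ℕ} (hq : ∀ x i, Nat.card {y // Δ.δ x y = cs.simple i} = q)

include hiso htr hq in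
theorem finrank_map [Nonempty C] : finrank ℂ ((Cl G).map (Ph C)) = finrank ℂ (Z cs (q : ℝ)) := by
  have hle : (Cl G).map (Ph C) ≤ (Z cs (q : ℝ)).map (adL Δ) := by
    rintro _ ⟨f, hf, rfl⟩
    obtain ⟨v, hv⟩ := exists_ad Δ htr (X := Ph C f) fun g => Ph_comm hf g
    refine ⟨v, ?_, hv.symm⟩
    rw [SetLike.mem_coe, comm_iff Δ hq]
    intro i
    rw [← hv, Ph_apply, Finset.mul_sum, Finset.sum_mul]
    refine Finset.sum_congr rfl fun g _ => ?_
    rw [mul_smul_comm, smul_mul_assoc, Pm_ad Δ hiso]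
  apply le_antisymm
  · exact (Submodule.finrank_mono hle).trans (Submodule.finrank_map_le _ _)
  · obtain ⟨c, hc, hcas⟩ := casimir Δ hiso htr
    have hcl : ∀ v : W → ℂ, Tr (G := G) C (ad Δ v) ∈ Cl G := fun v g h => Tr_classFun (Pm_ad Δ hiso v) g h
    let f : Z cs (q : ℝ) →ₗ[ℂ] (Cl G).map (Ph C) :=
      (Ph C ∘ₗ Tr (G := G) C ∘ₗ adL Δ ∘ₗ (Z cs (q : ℝ)).subtype).codRestrict _
        fun v => ⟨Tr (G := G) C (ad Δ v), hcl v, rfl⟩
    apply LinearMap.finrank_le_finrank_of_injective (f := f)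
    rw [← LinearMap.ker_eq_bot, LinearMap.ker_eq_bot']
    intro v hv
    have h1 : Ph C (Tr (G := G) C (ad Δ (v : W → ℂ))) = 0 := congrArg Subtype.val hv
    rw [hcas] at h1
    have h2 := eq_zero Δ hc (comm_all Δ hq _ ((comm_iff Δ hq _).1 v.2)) h1
    apply Subtype.ext
    apply ad_injective Δ
    rw [h2]
    rfl

end Main

/-- **The number of irreducible constituents of the permutation character on the chambers of a finite building all of
whose parameters are `q` is the number of conjugacy classes of the Weyl group.** -/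
theorem card_constituents {I W : Type*} {M : CoxeterMatrix I} [Group W] [Finite W] [Finite I]
    {cs : CoxeterSystem M W} {C : Type*} (Δ : Bldg cs C) [Finite C] [Nonempty C] {G : Type*} [Group G] [Finite G]
    [MulAction G C] (hiso : ∀ (g : G) (x y : C), Δ.δ (g • x) (g • y) = Δ.δ x y)
    (htr : ∀ x y x' y' : C, Δ.δ x y = Δ.δ x' y' → ∃ g : G, g • x = x' ∧ g • y = y')
    {q : ℕ} (hq0 : 0 < q) (hq : ∀ x i, Nat.card {y // Δ.δ x y = cs.simple i} = q) :
    Nat.card {χ : IrrCharacter G // ∃ φ : G → ℂ, IsCharacter G φ ∧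
      (fun g : G => (Nat.card (MulAction.fixedBy C g) : ℂ)) = (χ : G → ℂ) + φ} = Nat.card (ConjClasses W) := by
  classical
  let _ : Fintype W := Fintype.ofFinite W
  let _ : Fintype C := Fintype.ofFinite C
  let _ : Fintype G := Fintype.ofFinite G
  rw [← HeckeB.finrank_Z cs (t := (q : ℝ)) (by exact_mod_cast hq0), ← finrank_map Δ hiso htr hq]
  exact (finrank_eq_card C).symm

end Cfsg.Agent.H116.HeckeD
end
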