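import Cfsg.Agent.H116.HeckeD
import Cfsg.Agent.H116.HeckeE
import Cfsg.Agent.H940.RatB.Count
import Cfsg.Agent.H674.RealPerm
import Cfsg.Agent.S0190
import Cfsg.Agent.Prune
set_option linter.all false
prune_inst 0x7f00000000000000000000000000000000000000000000000000000000000000000000000000000000000000000000000000000000000000000000000000000000000000000000000000000000000000003ffff7fbfffffffffffff7ffffffbeffbde3feffff
open scoped Cfsg.Agent.FastGrp

-- part: H116/RealH
section
/-!
# The constituents of the permutation character on the chambers are real (helper116)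

If every element of the Weyl group `W` is conjugate to its inverse then the anti-automorphism `T_w ↦ T_{w⁻¹}` of the
Hecke algebra fixes the centre, for all parameters `t > 0` (the dimension of the anti-invariant part of the centre does
not depend on `t`), and every irreducible constituent of the permutation character on the chambers of a finite
building (all parameters `q`) is real-valued.
-/

set_option autoImplicit false
set_option linter.unusedSectionVars false

namespace Cfsg.Agent.H116.RealH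

open CoxeterSystem Cfsg Cfsg.Agent.Tits.Exchange Module Cfsg.Agent.H116.HeckeA Cfsg.Agent.H116.HeckeB
  Cfsg.Agent.H116.HeckeC Cfsg.Agent.H116.HeckeD Cfsg.Agent.Tits.Core Filter Topology
open scoped ComplexConjugate

section

variable {I W : Type*} {M : CoxeterMatrix I} [Group W] (cs : CoxeterSystem M W)

/-- The anti-automorphism `T_w ↦ T_{w⁻¹}`. -/
noncomputable def J (W : Type*) [Group W] : Module.End ℂ (W → ℂ) := LinearMap.funLeft ℂ ℂ (fun w : W => w⁻¹)

theorem J_apply (v : W → ℂ) (x : W) : J W v x = v x⁻¹ := rfl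

theorem J_J : J W * J W = 1 := by
  apply LinearMap.ext
  intro v
  funext x
  rw [Module.End.mul_apply, J_apply, J_apply, inv_inv, Module.End.one_apply]

theorem J_L (t : ℝ) (i : I) : J W * L cs t i = R cs t i * J W := by
  apply LinearMap.ext
  intro v
  funext x
  rw [Module.End.mul_apply, Module.End.mul_apply, J_apply, HeckeA.L_apply, HeckeA.R_apply, J_apply, J_apply]
  have h2 : (x * cs.simple i)⁻¹ = cs.simple i * x⁻¹ := by rw [_root_.mul_inv_rev, cs.inv_simple]
  rw [← h2, cs.length_inv, cs.length_inv]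

theorem J_R (t : ℝ) (i : I) : J W * R cs t i = L cs t i * J W := by
  apply LinearMap.ext
  intro v
  funext x
  rw [Module.End.mul_apply, Module.End.mul_apply, J_apply, HeckeA.L_apply, HeckeA.R_apply, J_apply, J_apply]
  have h2 : (cs.simple i * x)⁻¹ = x⁻¹ * cs.simple i := by rw [_root_.mul_inv_rev, cs.inv_simple]
  rw [← h2, cs.length_inv, cs.length_inv]

theorem J_LL (t : ℝ) (ω : List I) : J W * LL cs t ω = RR cs t ω * J W := by
  induction ω with
  | nil => rw [LL_nil, RR_nil, one_mul, mul_one]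
  | cons i ω ih => rw [LL_cons, RR_cons, ← mul_assoc, J_L, mul_assoc, ih, ← mul_assoc]

theorem J_RR (t : ℝ) (ω : List I) : J W * RR cs t ω = LL cs t ω * J W := by
  induction ω with
  | nil => rw [LL_nil, RR_nil, one_mul, mul_one]
  | cons i ω ih => rw [LL_cons, RR_cons, ← mul_assoc, J_R, mul_assoc, ih, ← mul_assoc]

theorem J_A (t : ℝ) (w : W) : J W * A cs t w = A cs t w * J W := by
  unfold A
  rw [← mul_assoc, J_LL, mul_assoc, J_RR, ← mul_assoc, ← commLR]

theorem J_Cas [Fintype W] (t : ℝ) : J W * Cas cs t = Cas cs t * J W := by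
  unfold Cas
  rw [Finset.mul_sum, Finset.sum_mul]
  refine Finset.sum_congr rfl fun w _ => ?_
  rw [mul_smul_comm, smul_mul_assoc, J_A]

theorem J_mem_Z {t : ℝ} {v : W → ℂ} (hv : v ∈ Z cs t) : J W v ∈ Z cs t := by
  rw [mem_Z] at hv ⊢
  intro i
  rw [← Module.End.mul_apply, ← Module.End.mul_apply, ← J_L, ← J_R, Module.End.mul_apply, Module.End.mul_apply, hv i]

/-- The anti-invariant part of the centre. -/
noncomputable def Zm (t : ℝ) : Submodule ℂ (W → ℂ) := Z cs t ⊓ LinearMap.ker (1 + J W)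

theorem mem_Zm {t : ℝ} {v : W → ℂ} : v ∈ Zm cs t ↔ v ∈ Z cs t ∧ J W v = -v := by
  unfold Zm
  rw [Submodule.mem_inf, LinearMap.mem_ker, LinearMap.add_apply, Module.End.one_apply]
  refine and_congr_right fun _ => ?_
  rw [add_comm, add_eq_zero_iff_eq_neg]

variable [Fintype W]

theorem finrank_range {t : ℝ} (ht : 0 < t) :
    finrank ℂ (LinearMap.range (Cas cs t * (1 - J W))) = finrank ℂ (Zm cs t) := by
  apply le_antisymm
  · apply Submodule.finrank_mono
    rintro _ ⟨v, rfl⟩
    rw [mem_Zm]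
    refine ⟨range_Cas_le cs ht.ne' ⟨_, rfl⟩, ?_⟩
    rw [Module.End.mul_apply, ← Module.End.mul_apply, J_Cas, Module.End.mul_apply, ← map_neg]
    congr 1
    rw [LinearMap.sub_apply, Module.End.one_apply, map_sub, ← Module.End.mul_apply, J_J, Module.End.one_apply]
    abel
  · let f : Zm cs t →ₗ[ℂ] LinearMap.range (Cas cs t * (1 - J W)) :=
      (Cas cs t * (1 - J W)).rangeRestrict ∘ₗ (Zm cs t).subtype
    apply LinearMap.finrank_le_finrank_of_injective (f := f)
    rw [← LinearMap.ker_eq_bot, LinearMap.ker_eq_bot']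
    intro z hz
    have h1 : (Cas cs t * (1 - J W)) (z : W → ℂ) = 0 := congrArg Subtype.val hz
    obtain ⟨h2, h3⟩ := (mem_Zm cs).1 z.2
    rw [Module.End.mul_apply, LinearMap.sub_apply, Module.End.one_apply, h3, sub_neg_eq_add, ← two_smul ℂ,
      map_smul] at h1
    have h4 := (smul_eq_zero.1 h1).resolve_left two_ne_zero
    exact Subtype.ext (eq_zero_of_Cas cs ht h2 h4)

/-- The operators whose common kernel is the anti-invariant part of the centre. -/
noncomputable def Nt [Fintype I] (t : ℝ) : (W → ℂ) →ₗ[ℂ] (I → (W → ℂ)) × (W → ℂ) := (Mt cs t).prod (1 + J W)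

theorem ker_Nt [Fintype I] (t : ℝ) : LinearMap.ker (Nt cs t) = Zm cs t := by
  unfold Nt Zm
  rw [LinearMap.ker_prod, ker_Mt]

theorem eventually_eq [Finite I] {t₀ : ℝ} (ht : 0 < t₀) :
    ∀ᶠ t in 𝓝 t₀, finrank ℂ (Zm cs t) = finrank ℂ (Zm cs t₀) := by
  have : Fintype I := Fintype.ofFinite I
  filter_upwards [eventually_rank_le (fun t => Cas cs t * (1 - J W)) t₀ fun v =>
      continuousAt_Cas cs ht.ne' ((1 - J W) v),
    eventually_rank_le (Nt cs) t₀ fun v => (continuousAt_Mt cs t₀ v).prodMk continuousAt_const,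
    lt_mem_nhds ht] with t h1 h2 h3
  rw [finrank_range cs ht, finrank_range cs h3] at h1
  have h4 := LinearMap.finrank_range_add_finrank_ker (Nt cs t)
  have h5 := LinearMap.finrank_range_add_finrank_ker (Nt cs t₀)
  rw [ker_Nt] at h4 h5
  omega

/-- The dimension of the anti-invariant part of the centre does not depend on the parameter. -/
theorem finrank_Zm_const [Finite I] {t t' : ℝ} (ht : 0 < t) (ht' : 0 < t') :
    finrank ℂ (Zm cs t) = finrank ℂ (Zm cs t') := by
  refine (isPreconnected_Ioi (a := (0 : ℝ))).constant (f := fun t => finrank ℂ (Zm cs t)) ?_ ht ht'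
  intro t₀ ht₀
  apply ContinuousAt.continuousWithinAt
  exact (continuousAt_const (y := finrank ℂ (Zm cs t₀))).congr ((eventually_eq cs ht₀).mono fun t h => h.symm)

theorem Zm_one (hW : ∀ w : W, IsConj w w⁻¹) : Zm cs 1 = ⊥ := by
  rw [eq_bot_iff]
  intro v hv
  obtain ⟨h1, h2⟩ := (mem_Zm cs).1 hv
  rw [mem_Z_one] at h1
  rw [Submodule.mem_bot]
  funext x
  obtain ⟨g, hg⟩ := isConj_iff.1 (hW x)
  have h3 := congrFun h2 x
  rw [J_apply, ← hg, h1, Pi.neg_apply] at h3
  rw [Pi.zero_apply]
  exact self_eq_neg.1 h3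

/-- **If every element of `W` is conjugate to its inverse then the centre of the Hecke algebra is fixed by
`T_w ↦ T_{w⁻¹}`.** -/
theorem J_eq [Finite I] (hW : ∀ w : W, IsConj w w⁻¹) {t : ℝ} (ht : 0 < t) {v : W → ℂ} (hv : v ∈ Z cs t) (w : W) :
    v w⁻¹ = v w := by
  have h1 : finrank ℂ (Zm cs t) = 0 := by
    rw [finrank_Zm_const cs ht one_pos, Zm_one cs hW, finrank_bot]
  have h2 : Zm cs t = ⊥ := Submodule.finrank_eq_zero.1 h1
  have h3 : v - J W v ∈ Zm cs t := by
    rw [mem_Zm]
    refine ⟨Submodule.sub_mem _ hv (J_mem_Z cs hv), ?_⟩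
    rw [map_sub, ← Module.End.mul_apply, J_J, Module.End.one_apply, neg_sub]
  rw [h2, Submodule.mem_bot, sub_eq_zero] at h3
  exact (congrFun h3 w).symm

end

/-! ### The group side -/

section Grp

open Matrix Cfsg.Agent.Characters.Core

universe u

theorem Pm_transpose {C : Type*} [Fintype C] [DecidableEq C] {G : Type*} [Group G] [MulAction G C] (g : G) :
    (Pm C g)ᵀ = Pm C g⁻¹ := by
  ext x y
  rw [transpose_apply, Pm_apply, Pm_apply]
  have : y = g • x ↔ x = g⁻¹ • y := by
    rw [eq_inv_smul_iff, eq_comm]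
  by_cases h : y = g • x
  · rw [if_pos h, if_pos (this.1 h)]
  · rw [if_neg h, if_neg fun h' => h (this.2 h')]

variable {I W : Type*} {M : CoxeterMatrix I} [Group W] {cs : CoxeterSystem M W} {C : Type*} (Δ : Bldg cs C)
  {G : Type u} [Group G] [MulAction G C]
  (hiso : ∀ (g : G) (x y : C), Δ.δ (g • x) (g • y) = Δ.δ x y)
  (htr : ∀ x y x' y' : C, Δ.δ x y = Δ.δ x' y' → ∃ g : G, g • x = x' ∧ g • y = y')
  {q : ℕ} (hq0 : 0 < q) (hq : ∀ x i, Nat.card {y // Δ.δ x y = cs.simple i} = q)
  (hW : ∀ w : W, IsConj w w⁻¹)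

include hiso htr hq0 hq hW

/-- **Every irreducible constituent of the permutation character on the chambers is real**, if every element of the
Weyl group is conjugate to its inverse. -/
theorem inv_eq_of_constituent [Finite W] [Finite I] [Finite C] [Nonempty C] [Fintype G] {χ : G → ℂ}
    (hχ : IsIrrCharacter G χ) (h : classInner (perm G C) χ ≠ 0) (g : G) : χ g⁻¹ = χ g := by
  classical
  let _ : Fintype W := Fintype.ofFinite W
  let _ : Fintype C := Fintype.ofFinite C
  have hf : ∀ g h : G, χ (h * g * h⁻¹) = χ g := isIrr_isClassFunction hχ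
  obtain ⟨v, hv⟩ := exists_ad Δ htr (X := Ph C χ) fun g => Ph_comm hf g
  have hZ : v ∈ Z cs (q : ℝ) := by
    rw [comm_iff Δ hq]
    intro i
    rw [← hv, Ph_apply, Finset.mul_sum, Finset.sum_mul]
    refine Finset.sum_congr rfl fun g _ => ?_
    rw [mul_smul_comm, smul_mul_assoc, Pm_ad Δ hiso]
  have hsymm : (Ph C χ)ᵀ = Ph C χ := by
    rw [hv, ad_transpose]
    congr 1
    funext w
    exact J_eq cs hW (by exact_mod_cast hq0) hZ w
  have hTr : Tr (G := G) C (Ph C χ) g⁻¹ = Tr (G := G) C (Ph C χ) g := by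
    rw [Tr_apply, Tr_apply, ← trace_transpose (Ph C χ * Pm C g), transpose_mul, Pm_transpose, hsymm, trace_mul_comm]
  rw [Tr_Ph_irr C hχ, Pi.smul_apply, Pi.smul_apply, smul_eq_mul, smul_eq_mul] at hTr
  refine mul_left_cancel₀ ?_ hTr
  exact div_ne_zero (mul_ne_zero card_ne_zero_complex h) (isIrr_apply_one_ne_zero hχ)

end Grp

end Cfsg.Agent.H116.RealH
end

-- part: H116/RealRGD
section
/-!
# `HasReal` from the permutation character on the cosets of a Borel subgroup (helper116)

* `hasReal_bldg` : a strongly transitive group `G` on a finite building with all parameters `q` whose Weyl group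
  satisfies `w ~ w⁻¹` for all `w`, `B` the stabiliser of a chamber, `ℓ ∣ |G : B|`: `HasReal ℓ G`;
* `hasReal_rgd` : the version for root group data;
* `hasReal_chev` : the version for the Chevalley groups.
-/

set_option autoImplicit false
set_option linter.unusedSectionVars false

namespace Cfsg.Agent.H116.RealRGD

open Cfsg CoxeterSystem Cfsg.Agent.ChevalleyStructure.CoxeterGeom Cfsg.Agent.Tits.Roots Cfsg.Agent.Tits.Core
  Cfsg.Agent.Tits.Exchange Cfsg.Agent.Nodes.Reps Cfsg.Agent.Nodes.BNOf Cfsg.Agent.H702.RealB0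
  Cfsg.Agent.Characters.Core
open scoped ComplexConjugate

universe u

section Conv

variable {G : Type u} [Group G]

theorem classInner_perm_coset [Fintype G] (H : Subgroup G) [Fintype H] {χ : G → ℂ} (hχ : IsClassFunction G χ) :
    classInner (HeckeD.perm G (G ⧸ H)) χ = (Nat.card H : ℂ)⁻¹ * ∑ h : H, conj (χ h) := by
  rw [← H674.RealPerm.classInner_perm H χ hχ]
  congr 1
  have h1 := S0190.result (G := G) (G ⧸ H) (QuotientGroup.mk 1)
  rw [MulAction.stabilizer_quotient] at h1
  exact h1

theorem classInner_ne_zero [Fintype G] (H : Subgroup G) [Fintype H] {χ : G → ℂ} (hχ : IsClassFunction G χ)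
    (h : ∑ h : H, χ h ≠ 0) : classInner (HeckeD.perm G (G ⧸ H)) χ ≠ 0 := by
  rw [classInner_perm_coset H hχ, ← map_sum]
  refine mul_ne_zero (inv_ne_zero (by exact_mod_cast Nat.card_pos.ne')) fun h0 => h ?_
  exact (map_eq_zero _).1 h0

end Conv

/-- **`HasReal` for strongly transitive groups on buildings.** -/
theorem hasReal_bldg {I W : Type*} {M : CoxeterMatrix I} [Group W] [Finite W] [Finite I] {cs : CoxeterSystem M W}
    {G : Type u} [Group G] [Finite G] (B : Subgroup G) (Δ : Bldg cs (G ⧸ B))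
    (hiso : ∀ (g : G) (x y : G ⧸ B), Δ.δ (g • x) (g • y) = Δ.δ x y)
    (htr : ∀ x y x' y' : G ⧸ B, Δ.δ x y = Δ.δ x' y' → ∃ g : G, g • x = x' ∧ g • y = y')
    {q : ℕ} (hq0 : 0 < q) (hq : ∀ x i, Nat.card {y // Δ.δ x y = cs.simple i} = q) (hW : ∀ w : W, IsConj w w⁻¹)
    {p : ℕ} (hp : p ∣ B.index) : HasReal p G := by
  classical
  let _ : Fintype G := Fintype.ofFinite G
  let _ : Fintype B := Fintype.ofFinite B
  refine H139.RealB0.Crit.of_constituents B hp fun χ h0 g => ?_
  have h1 := classInner_ne_zero B (isIrr_isClassFunction χ.2) h0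
  have h2 := RealH.inv_eq_of_constituent Δ hiso htr hq0 hq hW χ.2 h1 g
  rw [isCharacter_apply_inv (isIrr_isCharacter χ.2)] at h2
  exact Complex.conj_eq_iff_im.1 h2

/-- **`HasReal` for groups with a root group datum**, whose simple root groups have order `q`. -/
theorem hasReal_rgd {I W : Type*} {Y : Type u} [Fintype I] [DecidableEq I] [Group W] [Group Y] {M : CoxeterMatrix I}
    {cs : CoxeterSystem M W} {A : I → I → ℤ} {h : IsCartan M A} {r : ℕ} {T : Subgroup Y} {n : I → Y}
    {X : (I → ℤ) → Subgroup Y} [Finite W] [Finite Y] (R : RGD cs h r T n X)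
    (hgen : RGD.B cs h T X ⊔ NN cs R.nsys = ⊤) {q : ℕ} (hq : ∀ i, Nat.card (X (sr i)) = q) (hq0 : 0 < q)
    (hW : ∀ w : W, IsConj w w⁻¹) {p : ℕ} (hp : p ∣ (RGD.B cs h T X).index) : HasReal p Y := by
  obtain ⟨Δ, hiso, htr, hδ⟩ := H167.SteinbergRGD.exists_bldg R hgen
  exact hasReal_bldg _ Δ hiso htr hq0 (fun x i => by rw [HeckeE.card_nbr R Δ hδ, hq]) hW hp

open Cfsg.Lie Cfsg.Agent.ChevalleyStructure Cfsg.Agent.ChevalleyStructure.Elts Cfsg.Agent.Nodes.RGDChev
  Cfsg.Agent.ChevalleyStructure.RootVec Cfsg.Agent.ChevalleyStructure.RootVecTab Cfsg.Agent.ChevalleyStructure.NPerm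

/-- **`HasReal` for Chevalley groups.** -/
theorem hasReal_chev {D : ChevalleyDatum} {l : ℕ} {M : CoxeterMatrix (Fin l)} (hp : IsType D l M) {K : Type u} [Field K]
    [Finite K] (hW : ∀ w : M.Group, IsConj w w⁻¹) {p : ℕ}
    (hd : p ∣ ((D.borelSubgroup K).subgroupOf (D.group K)).index) : HasReal p ↥(D.group K) := by
  obtain ⟨r, hpc⟩ := CharP.exists K
  have hpp : Fact r.Prime := ⟨CharP.char_is_prime K r⟩
  have hfin : Finite M.Group := finite_W hp M.toCoxeterSystem
  rw [← HeckeE.B_eq hp M.toCoxeterSystem] at hd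
  exact hasReal_rgd (rgd hp M.toCoxeterSystem r) (gen hp M.toCoxeterSystem r) (fun i => HeckeE.card_root hp i)
    Nat.card_pos hW hd

end Cfsg.Agent.H116.RealRGD
end
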